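import Mathlib

/-!
# Regular elements on Noetherian modules and Nakayama
-/

universe u v

namespace QFAcyclicLib
variable {R : Type u} [CommRing R] {M : Type v} [AddCommGroup M] [Module R M]

/-- Prime avoidance for a Noetherian module over an arbitrary ring. -/
theorem exists_smul_injective [IsNoetherian R M] (p : Ideal R)
    (h : ∀ m : M, (∀ a ∈ p, a • m = 0) → m = 0) : ∃ f ∈ p, Function.Injective fun m : M => f • m := by
  classical
  let J := Module.annihilator R M
  let B := R ⧸ J
  have hT : Module.IsTorsionBySet R M (J : Set R) := fun m a => Module.mem_annihilator.mp a.2 m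
  letI : Module B M := hT.module
  haveI : IsScalarTower R B M := hT.isScalarTower
  have hmk : ∀ (a : R) (m : M), (Ideal.Quotient.mk J a) • m = a • m := fun a m => rfl
  haveI : Module.Finite R M := inferInstance
  obtain ⟨n, x, hx⟩ := Module.Finite.exists_fin (R := R) (M := M)
  haveI : IsNoetherian R B := by
    refine isNoetherian_of_injective (Submodule.liftQ J
      (LinearMap.pi fun i : Fin n => LinearMap.toSpanSingleton R M (x i)) ?_) ?_
    · intro a ha
      rw [LinearMap.mem_ker]
      funext i
      exact Module.mem_annihilator.mp ha (x i)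
    · rw [← LinearMap.ker_eq_bot, eq_bot_iff]
      intro b hb
      obtain ⟨a, rfl⟩ := Submodule.Quotient.mk_surjective J b
      rw [LinearMap.mem_ker, Submodule.liftQ_apply] at hb
      rw [Submodule.mem_bot, Submodule.Quotient.mk_eq_zero]
      rw [show J = Module.annihilator R M from rfl, ← Submodule.annihilator_top, ← hx,
        Submodule.mem_annihilator_span]
      rintro ⟨_, i, rfl⟩
      exact congr_fun hb i
  haveI : IsNoetherianRing B := isNoetherian_of_tower R ‹IsNoetherian R B›
  haveI : Module.Finite B M := Module.Finite.of_restrictScalars_finite R B M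
  by_contra hc
  push Not at hc
  let q := p.map (Ideal.Quotient.mk J)
  have hsub : (q : Set B) ⊆ ⋃ P ∈ ((associatedPrimes.finite B M).toFinset : Set (Ideal B)), (P : Set B) := by
    rintro b hb
    obtain ⟨a, ha, rfl⟩ := (Ideal.mem_map_iff_of_surjective _ Ideal.Quotient.mk_surjective).mp hb
    rw [Set.Finite.coe_toFinset, biUnion_associatedPrimes_eq_zero_divisors]
    obtain ⟨m, m', hmm, hne⟩ := Function.not_injective_iff.mp (hc a ha)
    exact ⟨m - m', sub_ne_zero.mpr hne, by
      rw [hmk, smul_sub]
      exact sub_eq_zero.mpr hmm⟩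
  obtain ⟨P, hP, hqP⟩ := (Ideal.subset_union_prime (f := id) ⊥ ⊥ fun P hP _ _ => by
    exact ((associatedPrimes.finite B M).mem_toFinset.mp hP).isPrime).mp hsub
  have hP' := (associatedPrimes.finite B M).mem_toFinset.mp hP
  rw [AssociatedPrimes.mem_iff, isAssociatedPrime_iff] at hP'
  obtain ⟨hPp, m, hm⟩ := hP'
  have hm0 : m = 0 := h m fun a ha => by
    have : Ideal.Quotient.mk J a ∈ P := hqP (Ideal.mem_map_of_mem _ ha)
    rw [hm] at this
    rw [← hmk]
    simpa using this
  exact hPp.ne_top (by rw [hm, hm0]; ext; simp)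

/-- If `a M ⊆ f M` with `f` in a prime `p` and `a ∉ p`, then `M` vanishes near `p`. -/
theorem exists_kill_of_le [Module.Finite R M] {p : Ideal R} [p.IsPrime] {f a : R} (hf : f ∈ p)
    (ha : a ∉ p) (h : ∀ m : M, ∃ m' : M, a • m = f • m') : ∃ b ∉ p, ∀ m : M, b • m = 0 := by
  obtain ⟨P, hmonic, -, hcoeff, hzero⟩ :=
    LinearMap.exists_monic_and_natDegree_eq_and_coeff_mem_pow_and_aeval_eq_zero R
      (a • (1 : Module.End R M)) (Ideal.span {f}) (by
      rintro _ ⟨m, rfl⟩
      obtain ⟨m', hm'⟩ := h m
      change a • m ∈ _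
      rw [hm']
      exact Submodule.smul_mem_smul (Ideal.subset_span rfl) trivial)
  refine ⟨P.eval a, fun hb => ha ?_, fun m => ?_⟩
  · rw [Polynomial.eval_eq_sum_range, Finset.sum_range_succ, hmonic.coeff_natDegree, one_mul] at hb
    have h1 : ∑ i ∈ Finset.range P.natDegree, P.coeff i * a ^ i ∈ p := by
      refine p.sum_mem fun i hi => p.mul_mem_right _ ?_
      have hi' : P.natDegree - i ≠ 0 := by
        have := Finset.mem_range.mp hi
        omega
      exact Ideal.span_le.mpr (Set.singleton_subset_iff.mpr hf) (Ideal.pow_le_self hi' (hcoeff i))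
    exact Ideal.IsPrime.mem_of_pow_mem ‹_› _ ((p.add_mem_iff_right h1).mp hb)
  · have : Polynomial.aeval (algebraMap R (Module.End R M) a) P =
        algebraMap R (Module.End R M) (P.eval a) := Polynomial.aeval_algebraMap_apply_eq_algebraMap_eval a P
    have h2 : a • (1 : Module.End R M) = algebraMap R (Module.End R M) a :=
      (Algebra.algebraMap_eq_smul_one a).symm
    rw [h2, this] at hzero
    exact congr($hzero m)

end QFAcyclicLib
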