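import Groth.Agent.QFAcyclicLib.Alg
import Groth.Agent.QCohLib.Push
import Groth.Agent.QCohLib.Coherent
import Groth.Agent.StabLib.Simple
import Groth.Agent.SerreGenLib.Main

/-!
# Acyclic modules with finite sections on a quasi-affine scheme
-/

universe u
open CategoryTheory CategoryTheory.Limits TopologicalSpace Opposite AlgebraicGeometry QCohLib

namespace QFAcyclicLib
variable {U Z : Scheme.{u}} (j : U ⟶ Z)

/-- Global sections of `j_* K`, as a module over the functions of the target. -/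
abbrev Sec (K : U.Modules) : Type u := Γ((Scheme.Modules.pushforward j).obj K, ⊤)

/-- The prime of a point. -/
noncomputable def ptPrime (z : Z) : Ideal Γ(Z, ⊤) :=
  (IsLocalRing.maximalIdeal (Z.presheaf.stalk z)).comap (Z.presheaf.germ ⊤ z trivial).hom

instance (z : Z) : (ptPrime z).IsPrime := by unfold ptPrime; infer_instance

theorem mem_ptPrime {z : Z} {a : Γ(Z, ⊤)} : a ∈ ptPrime z ↔ z ∉ Z.basicOpen a := by
  rw [Z.mem_basicOpen_top]
  rfl

variable [IsAffine Z] [IsOpenImmersion j] [QuasiCompact j]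

theorem not_mem_support_of_killed (K : U.Modules) [Coh.IsQCoh K] (a : Γ(Z, ⊤))
    (ha : ∀ m : Sec j K, a • m = 0) {x : U} (hx : j x ∈ Z.basicOpen a) : x ∉ CohB1.support K := by
  let P := (Scheme.Modules.pushforward j).obj K
  have hP : Coh.IsQCoh P := isQCoh_pushforward j K
  obtain ⟨g, hg, hxg⟩ := exists_basicOpen_nhd (isAffineOpen_top Z)
    (show j x ∈ j.opensRange ⊓ Z.basicOpen a from ⟨⟨x, rfl⟩, hx⟩) trivial
  have haff : IsAffineOpen (j ⁻¹ᵁ Z.basicOpen g) :=
    ((isAffineOpen_top Z).basicOpen g).preimage_of_isOpenImmersion j (hg.trans inf_le_left)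
  refine SerreGenLib.not_mem_support_of_subsingleton haff (fun (w : Γ(P, Z.basicOpen g)) => ?_) hxg
  obtain ⟨n, t, ht⟩ := (localizingAt_of_isQCoh (isAffineOpen_top Z) P g).exists_extend w
  have h1 := congr_arg (P.presheaf.map (homOfLE (Z.basicOpen_le g)).op) (ha t)
  rw [map_smul', map_zero, ht, ← mul_smul] at h1
  obtain ⟨v, hv⟩ := (isUnit_res a (hg.trans inf_le_right)).mul
    ((isUnit_res g (le_refl (Z.basicOpen g))).pow n)
  rw [← hv] at h1
  have h2 : (w : Γ(P, Z.basicOpen g)) = 0 := by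
    have := congr_arg (fun z => (↑v⁻¹ : Γ(Z, Z.basicOpen g)) • z) h1
    simpa only [← mul_smul, Units.inv_mul, one_smul, smul_zero] using this
  exact h2

theorem isZero_of_sections (K : U.Modules) [Coh.IsQCoh K] (h : ∀ m : Sec j K, m = 0) : IsZero K := by
  rw [IsZero.iff_id_eq_zero]
  apply Scheme.Modules.hom_ext
  intro W
  refine ConcreteCategory.hom_ext _ _ fun w => ?_
  refine TopCat.Presheaf.section_ext ((toAbF U).obj K : TopCat.Sheaf AddCommGrpCat _)
    W _ _ fun q _ => (not_not.mp (not_mem_support_of_killed j K 1 (fun m => by rw [h m, smul_zero])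
      (show j q ∈ Z.basicOpen 1 by simp)) :
      Subsingleton (K.presheaf.stalk q)).elim _ _

/-- A section killed by the prime of a point outside the open vanishes. -/
theorem eq_zero_of_killed (K : U.Modules) [Coh.IsQCoh K] {z : Z} (hz : z ∉ Set.range j)
    (m : Sec j K) (h : ∀ a ∈ ptPrime z, a • m = 0) : m = 0 := by
  let P := (Scheme.Modules.pushforward j).obj K
  refine TopCat.Presheaf.section_ext ((toAbF U).obj K : TopCat.Sheaf AddCommGrpCat _)
    (j ⁻¹ᵁ ⊤) (show Γ(K, j ⁻¹ᵁ ⊤) from m) 0 fun x hx => ?_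
  obtain ⟨a, ha, hxa⟩ := exists_basicOpen_nhd (isAffineOpen_top Z)
    (show j x ∈ j.opensRange from ⟨x, rfl⟩) trivial
  have h1 := congr_arg (P.presheaf.map (homOfLE (Z.basicOpen_le a)).op)
    (h a (mem_ptPrime.mpr fun hza => hz (ha hza)))
  rw [map_smul', map_zero] at h1
  obtain ⟨v, hv⟩ := isUnit_res a (le_refl (Z.basicOpen a))
  rw [← hv] at h1
  have h2 : P.presheaf.map (homOfLE (Z.basicOpen_le a)).op m = 0 := by
    have := congr_arg (fun z => (↑v⁻¹ : Γ(Z, Z.basicOpen a)) • z) h1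
    simpa only [← mul_smul, Units.inv_mul, one_smul, smul_zero] using this
  refine (TopCat.Presheaf.germ_res_apply K.presheaf
    (homOfLE (j.preimage_mono (Z.basicOpen_le a))) x hxa (show Γ(K, j ⁻¹ᵁ ⊤) from m)).symm.trans ?_
  refine (congr_arg (K.presheaf.germ (j ⁻¹ᵁ Z.basicOpen a) x hxa) h2).trans ?_
  exact (map_zero (K.presheaf.germ (j ⁻¹ᵁ Z.basicOpen a) x hxa).hom).trans
    (map_zero (K.presheaf.germ (j ⁻¹ᵁ ⊤) x hx).hom).symm

/-- The induced map on sections. -/
noncomputable def secMap {K L : U.Modules} (φ : K ⟶ L) : Sec j K →ₗ[Γ(Z, ⊤)] Sec j L :=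
  appLin ((Scheme.Modules.pushforward j).map φ) ⊤

theorem exists_kill_aux (M₀ : Type u) [AddCommGroup M₀] [Module Γ(Z, ⊤) M₀]
    [IsNoetherian Γ(Z, ⊤) M₀] (N : Submodule Γ(Z, ⊤) M₀) :
    ∀ (K : U.Modules), Coh.IsQCoh K → (∀ n, Subsingleton (HU ((toAbF U).obj K) (n + 1) ⊤)) →
      ∀ ψ : M₀ →ₗ[Γ(Z, ⊤)] Sec j K, Function.Surjective ψ → LinearMap.ker ψ = N →
      ∀ z : Z, z ∉ Set.range j → ∃ a ∉ ptPrime z, ∀ m : Sec j K, a • m = 0 := by
  induction N using WellFoundedGT.induction with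
  | ind N ih =>
  intro K hK hH ψ hψ hN z hz
  by_cases h0 : ∀ m : Sec j K, m = 0
  · exact ⟨1, (Ideal.ne_top_iff_one _).mp (Ideal.IsPrime.ne_top inferInstance),
      fun m => by rw [h0 m, smul_zero]⟩
  have : IsNoetherian Γ(Z, ⊤) (Sec j K) := isNoetherian_of_surjective ψ (LinearMap.range_eq_top.mpr hψ)
  obtain ⟨f, hf, hinj⟩ := exists_smul_injective (ptPrime z)
    (fun m hm => eq_zero_of_killed j K hz m hm)
  let r : Coh.Γtop U := (show Γ(U, ⊤) from j.app ⊤ f)
  let φ : K ⟶ K := StabLib.smulHom K r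
  have hφ : ∀ m : Sec j K, secMap j φ m = f • m := fun m => by
    refine (StabLib.smulHom_app K r (j ⁻¹ᵁ ⊤) m).trans ?_
    refine (congr_arg (· • (show Γ(K, j ⁻¹ᵁ ⊤) from m)) ?_).trans (push_smul j K f m).symm
    exact ConcreteCategory.congr_hom (U.presheaf.map_id (op (⊤ : U.Opens))) (j.app ⊤ f)
  have : Coh.IsQCoh (kernel φ) := isQCoh_kernel φ
  have hker : IsZero (kernel φ) := isZero_of_sections j (kernel φ) fun m => by
    apply app_injective_of_mono (kernel.ι φ) (j ⁻¹ᵁ ⊤)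
    refine Eq.trans ?_ (map_zero ((kernel.ι φ).app (j ⁻¹ᵁ ⊤)).hom).symm
    apply hinj
    change f • secMap j (kernel.ι φ) m = f • (0 : Sec j K)
    rw [smul_zero, ← hφ]
    exact congr_arg (fun θ : kernel φ ⟶ K => θ.app (j ⁻¹ᵁ ⊤) m) (kernel.condition φ)
  have : Mono φ := Preadditive.mono_of_isZero_kernel φ hker
  have hQ : Coh.IsQCoh (cokernel φ) := isQCoh_cokernel φ
  let S : ShortComplex U.Modules := ShortComplex.mk φ (cokernel.π φ) (cokernel.condition φ)
  have hS : S.ShortExact :=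
    { exact := ShortComplex.exact_of_g_is_cokernel _ (cokernelIsCokernel φ)
      mono_f := inferInstanceAs (Mono φ)
      epi_g := inferInstanceAs (Epi (cokernel.π φ)) }
  have hsurj : Function.Surjective (secMap j (cokernel.π φ)) := fun q => by
    haveI : Subsingleton (HU (S.map (toAbF U)).X₁ 1 (⊤ : U.Opens)) := hH 0
    exact exists_lift_of_subsingleton (S := S.map (toAbF U)) (toAbF_shortExact hS) (U := (⊤ : U.Opens)) q
  have hH' : ∀ n, Subsingleton (HU ((toAbF U).obj (cokernel φ)) (n + 1) ⊤) := fun n =>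
    @subsingleton_X₃ _ (S.map (toAbF U)) (toAbF_shortExact hS) (n + 1) (⊤ : U.Opens) (hH n) (hH (n + 1))
  let ψ' := (secMap j (cokernel.π φ)).comp ψ
  have hlt : N < LinearMap.ker ψ' := by
    refine SetLike.lt_iff_le_and_exists.mpr ⟨hN ▸ LinearMap.ker_le_ker_comp _ _, ?_⟩
    push Not at h0
    obtain ⟨m, hm⟩ := h0
    obtain ⟨w, hw⟩ := hψ (f • m)
    refine ⟨w, ?_, ?_⟩
    · change secMap j (cokernel.π φ) (ψ w) = 0
      rw [hw, ← hφ]
      exact congr_arg (fun θ : K ⟶ cokernel φ => θ.app (j ⁻¹ᵁ ⊤) m) (cokernel.condition φ)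
    · rw [← hN, LinearMap.mem_ker, hw]
      exact fun h => hm (hinj (h.trans (smul_zero f).symm))
  obtain ⟨a, ha, hkill⟩ := ih _ hlt (cokernel φ) hQ hH' ψ' (hsurj.comp hψ) rfl z hz
  refine exists_kill_of_le hf ha fun m => ?_
  obtain ⟨m', hm'⟩ := exists_of_app_eq_zero (S := S) hS.exact hS.mono_f
    (U := j ⁻¹ᵁ ⊤) (show Γ(K, j ⁻¹ᵁ ⊤) from (a • m : Sec j K)) (by
      change secMap j (cokernel.π φ) (a • m) = 0
      rw [map_smul, hkill])
  exact ⟨m', hm'.symm.trans (hφ m')⟩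

/-- An acyclic module with Noetherian module of sections vanishes near every point outside. -/
theorem exists_kill (K : U.Modules) [Coh.IsQCoh K]
    (hH : ∀ n, Subsingleton (HU ((toAbF U).obj K) (n + 1) ⊤))
    [IsNoetherian Γ(Z, ⊤) (Sec j K)] (z : Z) (hz : z ∉ Set.range j) :
    ∃ a ∉ ptPrime z, ∀ m : Sec j K, a • m = 0 :=
  exists_kill_aux j (Sec j K) _ K ‹_› hH LinearMap.id Function.surjective_id rfl z hz

end QFAcyclicLib
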