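import Groth.Agent.QFAcyclicLib.Core
import Groth.Agent.RpushLib.Sections
import Groth.Agent.PerfDualLib.Props
import Groth.Agent.CohGenLib.Localization

/-!
# Quasi-finite morphisms with an acyclic module of full support
-/

universe u
open CategoryTheory CategoryTheory.Limits TopologicalSpace Opposite AlgebraicGeometry QCohLib

namespace QFAcyclicLib

theorem isClosed_range {V N X : Scheme.{u}} (h : V ⟶ N) [IsOpenImmersion h] [QuasiCompact h]
    (g : N ⟶ X) [IsAffineHom g] [IsLocallyNoetherian X] [QuasiCompact (h ≫ g)]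
    [QuasiSeparated (h ≫ g)] [HasInjectiveResolutions V.Modules]
    (K : V.Modules) (hK : Coh.IsQCoh K) (hsupp : CohB1.support K = Set.univ)
    (hpush : CohB1.IsFT ((Scheme.Modules.pushforward (h ≫ g)).obj K))
    (hvan : ∀ q : ℕ, 0 < q → IsZero ((Coh.Rpush (h ≫ g) q).obj K)) :
    IsClosed (Set.range h) := by
  rw [← isOpen_compl_iff, isOpen_iff_forall_mem_open]
  intro z hz
  obtain ⟨W, hW, hzW⟩ := exists_affine_nhd (g z)
  let Z₀ : N.Opens := g ⁻¹ᵁ W
  haveI : IsAffine (Z₀ : Scheme.{u}) := hW.preimage g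
  let U₀ : V.Opens := h ⁻¹ᵁ Z₀
  let j : (U₀ : Scheme.{u}) ⟶ Z₀ := h ∣_ Z₀
  haveI : IsOpenImmersion j := IsZariskiLocalAtTarget.restrict ‹IsOpenImmersion h› Z₀
  haveI : QuasiCompact j := IsZariskiLocalAtTarget.restrict ‹QuasiCompact h› Z₀
  let K' := K.restrict U₀.ι
  haveI : Coh.IsQCoh K := hK
  haveI : Coh.IsQCoh K' := Groth.Agent.PerfDualLib.isQCoh_restrict K U₀
  have hH : ∀ n, Subsingleton (HU ((toAbF (U₀ : Scheme.{u})).obj K') (n + 1) ⊤) := fun n => by
    have hz0 := hvan (n + 1) n.succ_pos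
    have hs : Subsingleton Γ((Coh.Rpush (h ≫ g) (n + 1)).obj K, W) :=
      subsingleton_of_forall_eq 0 fun x => congr_arg
        (fun θ : (Coh.Rpush (h ≫ g) (n + 1)).obj K ⟶ (Coh.Rpush (h ≫ g) (n + 1)).obj K => θ.app W x)
        ((IsZero.iff_id_eq_zero _).mp hz0)
    have h1 : Subsingleton (Coh.HH (U₀ : Scheme.{u}) K' (n + 1)) :=
      (RpushLib.rpushSectionsEquiv (h ≫ g) K (n + 1) hW).toEquiv.subsingleton_congr.mp hs
    exact (hEquiv ((toAbF (U₀ : Scheme.{u})).obj K') (n + 1)).toEquiv.subsingleton_congr.mp h1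
  let P₀ := (Scheme.Modules.pushforward (h ≫ g)).obj K
  haveI : Coh.IsQCoh P₀ := isQCoh_pushforward (h ≫ g) K
  haveI : Module.Finite Γ(X, W) Γ(P₀, W) := finite_of_isFT hpush hW
  haveI : IsNoetherianRing Γ(X, W) := IsLocallyNoetherian.component_noetherian ⟨W, hW⟩
  have hle : U₀.ι ''ᵁ (j ⁻¹ᵁ ⊤) = U₀ := U₀.ι_image_top
  let ρ : Γ(X, W) →+* Γ((Z₀ : Scheme.{u}), ⊤) := (g.app W ≫ Z₀.topIso.inv).hom
  let e : Γ(P₀, W) →+ Sec j K' := (K.presheaf.map (eqToHom hle).op).hom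
  have he : Function.Bijective e :=
    ConcreteCategory.bijective_of_isIso (K.presheaf.map (eqToHom hle).op)
  have hsmul : ∀ (a : Γ(X, W)) (m : Γ(P₀, W)), e (a • m) = ρ a • e m := fun a m => by
    rw [show a • m = (show Γ(P₀, W) from ((h ≫ g).app W a • (show Γ(K, (h ≫ g) ⁻¹ᵁ W) from m) : Γ(K, (h ≫ g) ⁻¹ᵁ W)))
      from push_smul _ K a m]
    refine (QCohLib.map_smul' K (eqToHom hle) _ _).trans ?_
    refine Eq.trans ?_ (push_smul j K' (ρ a) (e m)).symm
    refine Eq.trans ?_ (Scheme.Modules.smul_restrictAppIso_hom_apply U₀.ι K _ _ _).symm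
    refine congr_arg₂ (· • ·) ?_ rfl
    simp only [ρ, j, morphismRestrict_app, Scheme.Opens.topIso_inv, Scheme.Opens.ι_appIso,
      Iso.refl_inv]
    refine Eq.trans ?_ (congr_arg (V.presheaf.map _)
      (congr($(h.naturality (eqToHom (Z₀.ι_image_top)).op) (g.app W a))).symm)
    exact (QCohLib.ringMap_map' _ _ _).symm
  letI : Module Γ(X, W) (Sec j K') := Module.compHom _ ρ
  letI : Algebra Γ(X, W) Γ((Z₀ : Scheme.{u}), ⊤) := ρ.toAlgebra
  haveI : IsScalarTower Γ(X, W) Γ((Z₀ : Scheme.{u}), ⊤) (Sec j K') :=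
    IsScalarTower.of_algebraMap_smul fun _ _ => rfl
  haveI : IsNoetherian Γ(X, W) (Sec j K') :=
    isNoetherian_of_surjective
      ({ toFun := e, map_add' := map_add e, map_smul' := hsmul } : Γ(P₀, W) →ₗ[Γ(X, W)] Sec j K')
      (LinearMap.range_eq_top.mpr he.2)
  haveI : IsNoetherian Γ((Z₀ : Scheme.{u}), ⊤) (Sec j K') := isNoetherian_of_tower Γ(X, W) ‹_›
  let z₀ : (Z₀ : Scheme.{u}) := ⟨z, hzW⟩
  have hz₀ : z₀ ∉ Set.range j := by
    rintro ⟨x, hx⟩
    refine hz ⟨U₀.ι x, ?_⟩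
    have h2 := congr_arg Z₀.ι hx
    rw [← Scheme.Hom.comp_apply, morphismRestrict_ι, Scheme.Hom.comp_apply] at h2
    exact h2
  obtain ⟨a, ha, hkill⟩ := exists_kill j K' hH z₀ hz₀
  refine ⟨Z₀.ι '' ((Z₀ : Scheme.{u}).basicOpen a : Set (Z₀ : Scheme.{u})), ?_,
    Z₀.ι.isOpenEmbedding.isOpenMap _ ((Z₀ : Scheme.{u}).basicOpen a).isOpen,
    ⟨z₀, not_not.mp fun h' => ha (mem_ptPrime.mpr h'), rfl⟩⟩
  rintro _ ⟨y, hy, rfl⟩ ⟨x, hx⟩
  have hxU : x ∈ U₀ := by
    change h x ∈ Z₀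
    rw [hx]
    exact y.2
  have hjx : j ⟨x, hxU⟩ = y := by
    refine Z₀.ι.isOpenEmbedding.injective ?_
    rw [← Scheme.Hom.comp_apply, morphismRestrict_ι, Scheme.Hom.comp_apply]
    exact hx
  have hns := not_mem_support_of_killed j K' a hkill (x := ⟨x, hxU⟩) (hjx ▸ hy)
  have h3 : x ∈ CohB1.support K := hsupp ▸ Set.mem_univ x
  rw [show x = U₀.ι ⟨x, hxU⟩ from rfl, ← CohGenLib.mem_support_restrict U₀.ι K ⟨x, hxU⟩] at h3
  exact hns h3

/-- A quasi-finite separated morphism with an acyclic module of full support and finite direct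
image is finite. -/
theorem isFinite_of_acyclic {V X : Scheme.{u}} (f : V ⟶ X) [IsLocallyNoetherian X]
    [LocallyQuasiFinite f] [LocallyOfFiniteType f] [QuasiCompact f] [IsSeparated f]
    [HasInjectiveResolutions V.Modules]
    (K : V.Modules) (hK : Coh.IsQCoh K) (hsupp : CohB1.support K = Set.univ)
    (hpush : CohB1.IsFT ((Scheme.Modules.pushforward f).obj K))
    (hvan : ∀ q : ℕ, 0 < q → IsZero ((Coh.Rpush f q).obj K)) : IsFinite f := by
  have e : f.toNormalization ≫ f.fromNormalization = f := f.toNormalization_fromNormalization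
  have h1 : ∀ (f' : V ⟶ X), f' = f → QuasiCompact f' ∧ QuasiSeparated f' ∧
      CohB1.IsFT ((Scheme.Modules.pushforward f').obj K) ∧
      ∀ q : ℕ, 0 < q → IsZero ((Coh.Rpush f' q).obj K) := by
    rintro _ rfl
    exact ⟨inferInstance, inferInstance, hpush, hvan⟩
  obtain ⟨hqc, hqs, hft, hv⟩ := h1 _ e
  haveI : QuasiCompact f.toNormalization :=
    QuasiCompact.of_comp f.toNormalization f.fromNormalization
  haveI : IsClosedImmersion f.toNormalization :=
    .of_isPreimmersion _ (isClosed_range f.toNormalization f.fromNormalization K hK hsupp hft hv)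
  have : IsIntegralHom f := by rw [← e]; infer_instance
  exact (IsFinite.iff_isIntegralHom_and_locallyOfFiniteType f).mpr ⟨this, inferInstance⟩

end QFAcyclicLib
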